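import Groth.Agent.Lib.Helper18.FFBar.Over
import Groth.Agent.Lib.Helper18.FF.Finite
import Groth.Agent.Lib.Helper18.FF.FiniteExt
import Mathlib.RingTheory.TensorProduct.Maps
import Mathlib.FieldTheory.IsAlgClosed.Basic
import Mathlib.FieldTheory.IntermediateField.Adjoin.Algebra
import Mathlib.FieldTheory.IntermediateField.Algebraic

/-! # Algebraic constant field extensions of a function field (helper18)

`K₁ = k₁ K` where `k₁/k` is algebraic (possibly infinite); only surjectivity of `k₁ ⊗ K → K₁` is
used here. -/

set_option autoImplicit false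

namespace Groth.Agent.Lib.Helper18.FFBar

open FunFld WithZero Groth.Agent.Lib.Helper18.FF Groth.Agent.Lib.Helper24.FFExt

open scoped TensorProduct

variable {k k₁ K K₁ : Type*} [Field k] [Field k₁] [Field K] [Field K₁]
  [Algebra k k₁] [Algebra k K] [Algebra K K₁] [Algebra k₁ K₁] [Algebra k K₁]
  [IsScalarTower k k₁ K₁] [IsScalarTower k K K₁]

/-- Every element of `K₁` is a finite sum of products `a x`, `a ∈ k₁`, `x ∈ K`. -/
theorem exists_repr
    (h : Function.Surjective (Algebra.TensorProduct.productMap
      (IsScalarTower.toAlgHom k k₁ K₁) (IsScalarTower.toAlgHom k K K₁))) (z : K₁) :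
    ∃ l : List (k₁ × K), z = (l.map fun p => algebraMap k₁ K₁ p.1 * algebraMap K K₁ p.2).sum := by
  obtain ⟨w, rfl⟩ := h z
  induction w using TensorProduct.induction_on with
  | zero => exact ⟨[], by simp⟩
  | tmul a b => exact ⟨[(a, b)], by simp⟩
  | add x y hx hy =>
    obtain ⟨l₁, h₁⟩ := hx
    obtain ⟨l₂, h₂⟩ := hy
    exact ⟨l₁ ++ l₂, by rw [map_add, h₁, h₂, List.map_append, List.sum_append]⟩

variable [Algebra.IsAlgebraic k k₁]

/-- `K₁/K` is algebraic. -/
theorem isAlgebraic_of_surjective
    (h : Function.Surjective (Algebra.TensorProduct.productMap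
      (IsScalarTower.toAlgHom k k₁ K₁) (IsScalarTower.toAlgHom k K K₁))) :
    Algebra.IsAlgebraic K K₁ := by
  have hint : ∀ z : K₁, IsIntegral K z := by
    intro z
    obtain ⟨l, rfl⟩ := exists_repr h z
    change _ ∈ integralClosure K K₁
    refine Subalgebra.list_sum_mem _ ?_
    intro y hy
    obtain ⟨p, -, rfl⟩ := List.mem_map.mp hy
    refine Subalgebra.mul_mem _ ?_ (Subalgebra.algebraMap_mem _ _)
    have h1 : IsIntegral k (algebraMap k₁ K₁ p.1) :=
      (Algebra.IsIntegral.isIntegral (R := k) p.1).algebraMap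
    exact h1.tower_top
  exact ⟨fun z => (hint z).isAlgebraic⟩

/-- Every element of `K₁` lies in `K k'` for a finite subextension `k'` of `k₁/k`. -/
theorem exists_finite_level
    (h : Function.Surjective (Algebra.TensorProduct.productMap
      (IsScalarTower.toAlgHom k k₁ K₁) (IsScalarTower.toAlgHom k K K₁))) (z : K₁) :
    ∃ k' : IntermediateField k k₁, FiniteDimensional k k' ∧
      z ∈ Algebra.adjoin K (Set.range fun c : k' => algebraMap k₁ K₁ c) := by
  classical
  obtain ⟨l, rfl⟩ := exists_repr h z
  set S : Set k₁ := ↑(l.map Prod.fst).toFinset with hS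
  haveI : Finite S := by rw [hS]; exact Finite.of_fintype _
  refine ⟨IntermediateField.adjoin k S, IntermediateField.finiteDimensional_adjoin
    (fun x _ => Algebra.IsIntegral.isIntegral x), ?_⟩
  refine Subalgebra.list_sum_mem _ ?_
  intro y hy
  obtain ⟨p, hp, rfl⟩ := List.mem_map.mp hy
  refine Subalgebra.mul_mem _ (Algebra.subset_adjoin ?_) (Subalgebra.algebraMap_mem _ _)
  have hmem : p.1 ∈ IntermediateField.adjoin k S := by
    apply IntermediateField.subset_adjoin
    rw [hS, Finset.mem_coe, List.mem_toFinset]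
    exact List.mem_map.mpr ⟨p, hp, rfl⟩
  exact ⟨⟨p.1, hmem⟩, rfl⟩

/-- A transcendental element of `K` stays transcendental over `k₁` in `K₁`. -/
theorem transcendental_map {x : K} (hx : Transcendental k x) :
    Transcendental k₁ (algebraMap K K₁ x) := by
  intro halg
  have h1 : IsAlgebraic k (algebraMap K K₁ x) := halg.restrictScalars k
  exact (transcendental_algebraMap_iff (algebraMap K K₁).injective).mpr hx h1

/-- `K₁` is finite over `k₁(x)` when `K` is finite over `k(x)`. -/
theorem finiteDimensional_adjoin_bar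
    (h : Function.Surjective (Algebra.TensorProduct.productMap
      (IsScalarTower.toAlgHom k k₁ K₁) (IsScalarTower.toAlgHom k K K₁))) {x : K}
    (hfin : FiniteDimensional (IntermediateField.adjoin k ({x} : Set K)) K) :
    FiniteDimensional (IntermediateField.adjoin k₁ ({algebraMap K K₁ x} : Set K₁)) K₁ := by
  classical
  set L₀ := IntermediateField.adjoin k ({x} : Set K) with hL₀
  set L := IntermediateField.adjoin k₁ ({algebraMap K K₁ x} : Set K₁) with hL
  obtain ⟨S, hS⟩ := (Module.finite_def (R := L₀) (M := K)).mp hfin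
  -- the `L`-span of the image of `S`
  set W : Submodule L K₁ := Submodule.span L ((algebraMap K K₁) '' (S : Set K)) with hW
  have hL₀L : ∀ r : K, r ∈ L₀ → algebraMap K K₁ r ∈ L := by
    intro r hr
    have h1 : L₀.map (IsScalarTower.toAlgHom k K K₁) ≤ L.restrictScalars k := by
      rw [hL₀, IntermediateField.adjoin_map, IntermediateField.adjoin_le_iff]
      rintro w ⟨w', hw', rfl⟩
      rw [Set.mem_singleton_iff] at hw'
      subst hw'
      exact IntermediateField.mem_adjoin_simple_self k₁ _
    exact h1 ⟨r, hr, rfl⟩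
  have hK : ∀ y : K, algebraMap K K₁ y ∈ W := by
    intro y
    have hy : y ∈ Submodule.span L₀ (S : Set K) := by rw [hS]; trivial
    induction hy using Submodule.span_induction with
    | mem s hs => exact Submodule.subset_span ⟨s, hs, rfl⟩
    | zero => rw [map_zero]; exact W.zero_mem
    | add a b _ _ ha hb => rw [map_add]; exact W.add_mem ha hb
    | smul r a _ ha =>
      have : algebraMap K K₁ (r • a) = (⟨algebraMap K K₁ r, hL₀L r r.2⟩ : L) • algebraMap K K₁ a := by
        rw [Algebra.smul_def, map_mul]; rfl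
      rw [this]
      exact W.smul_mem _ ha
  have htop : W = ⊤ := by
    rw [eq_top_iff]
    intro z _
    obtain ⟨l, rfl⟩ := exists_repr h z
    refine list_sum_mem ?_
    intro y hy
    obtain ⟨p, -, rfl⟩ := List.mem_map.mp hy
    have : algebraMap k₁ K₁ p.1 * algebraMap K K₁ p.2 =
        (⟨algebraMap k₁ K₁ p.1, L.algebraMap_mem p.1⟩ : L) • algebraMap K K₁ p.2 := rfl
    rw [this]
    exact W.smul_mem _ (hK _)
  exact Module.finite_def.mpr ⟨S.image (algebraMap K K₁), by rw [Finset.coe_image, ← hW, htop]⟩

/-- If `k₁` is algebraically closed, `K₁/k₁` is a function field of one variable. -/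
theorem isFunctionField_bar [IsAlgClosed k₁]
    (h : Function.Surjective (Algebra.TensorProduct.productMap
      (IsScalarTower.toAlgHom k k₁ K₁) (IsScalarTower.toAlgHom k K K₁)))
    (hK : WeakFF k K) : IsFunctionField k₁ K₁ := by
  obtain ⟨x, hx, hfin⟩ := hK
  refine ⟨⟨algebraMap K K₁ x, transcendental_map hx, finiteDimensional_adjoin_bar h hfin⟩, ?_⟩
  intro y hy
  have h1 : (minpoly k₁ y).degree = 1 :=
    IsAlgClosed.degree_eq_one_of_irreducible k₁ (minpoly.irreducible hy.isIntegral)
  exact minpoly.mem_range_of_degree_eq_one k₁ y h1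

end Groth.Agent.Lib.Helper18.FFBar
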