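import Groth.Agent.Lib.Helper18.FFBar.Level
import Mathlib.FieldTheory.IsAlgClosed.AlgebraicClosure
import Mathlib.LinearAlgebra.TensorProduct.Finiteness
import Mathlib.RingTheory.Localization.FractionRing

/-! # The field `k̄ ⊗ K` for a geometric extension `K/k` (helper18) -/

set_option autoImplicit false

namespace Groth.Agent.Lib.Helper18.FFBar

open FunFld WithZero Groth.Agent.Lib.Helper18.FF Groth.Agent.Lib.Helper24.FFExt

open scoped TensorProduct

universe u v

variable {k : Type u} {K : Type v} [Field k] [Field K] [Algebra k K]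

/-- Every element of `k̄ ⊗ K` comes from `k' ⊗ K` for a finite subextension `k'`. -/
theorem exists_finite_tensor (z : AlgebraicClosure k ⊗[k] K) :
    ∃ k' : IntermediateField k (AlgebraicClosure k), FiniteDimensional k k' ∧
      z ∈ Set.range (Algebra.TensorProduct.map k'.val (AlgHom.id k K)) := by
  classical
  obtain ⟨S, rfl⟩ := TensorProduct.exists_finset z
  set T : Set (AlgebraicClosure k) := ↑(S.image Prod.fst) with hT
  haveI : Finite T := by rw [hT]; exact Finite.of_fintype _
  refine ⟨IntermediateField.adjoin k T, IntermediateField.finiteDimensional_adjoin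
    (fun x _ => Algebra.IsIntegral.isIntegral x), ?_⟩
  have hmem : ∀ p ∈ S, p.1 ∈ IntermediateField.adjoin k T := by
    intro p hp
    apply IntermediateField.subset_adjoin
    rw [hT, Finset.mem_coe, Finset.mem_image]
    exact ⟨p, hp, rfl⟩
  refine ⟨∑ p ∈ S.attach, (⟨p.1.1, hmem p.1 p.2⟩ : IntermediateField.adjoin k T) ⊗ₜ[k] p.1.2, ?_⟩
  rw [map_sum, ← Finset.sum_attach S]
  refine Finset.sum_congr rfl fun p _ => ?_
  simp

/-- `k̄ ⊗ K` is a field when `K/k` is geometric. -/
theorem isField_tensor_algebraicClosure (hg : IsGeometric k K) :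
    IsField (AlgebraicClosure k ⊗[k] K) := by
  have hinjK : Function.Injective
      (Algebra.TensorProduct.includeRight : K →ₐ[k] AlgebraicClosure k ⊗[k] K) :=
    Algebra.TensorProduct.includeRight_injective (algebraMap k (AlgebraicClosure k)).injective
  refine ⟨⟨0, 1, ?_⟩, mul_comm, ?_⟩
  · intro h01
    have : (Algebra.TensorProduct.includeRight : K →ₐ[k] AlgebraicClosure k ⊗[k] K) 0 =
        Algebra.TensorProduct.includeRight 1 := by rw [map_zero, map_one]; exact h01
    exact zero_ne_one (hinjK this)
  · intro z hz
    obtain ⟨k', hfin, z', rfl⟩ := exists_finite_tensor z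
    have hinj : Function.Injective (Algebra.TensorProduct.map k'.val (AlgHom.id k K)) :=
      Module.Flat.rTensor_preserves_injective_linearMap (M := K) k'.val.toLinearMap
        Subtype.val_injective
    have hz' : z' ≠ 0 := by
      rintro rfl
      exact hz (map_zero _)
    have hfield : IsField (k' ⊗[k] K) := hg k' hfin
    obtain ⟨w', hw'⟩ := hfield.mul_inv_cancel hz'
    exact ⟨Algebra.TensorProduct.map k'.val (AlgHom.id k K) w', by rw [← map_mul, hw', map_one]⟩

end Groth.Agent.Lib.Helper18.FFBar
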