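import Groth.Agent.Lib.Helper18.FFBar.Places
import Mathlib.FieldTheory.IsAlgClosed.AlgebraicClosure

/-! # Places of `k̄ K` are defined over finite extensions of `k` (helper18) -/

set_option autoImplicit false

namespace Groth.Agent.Lib.Helper18.FFBar

open FunFld WithZero Groth.Agent.Lib.Helper18.FF Groth.Agent.Lib.Helper24.FFExt

open scoped TensorProduct

variable {k k₁ K K₁ : Type*} [Field k] [Field k₁] [Field K] [Field K₁]
  [Algebra k k₁] [Algebra k K] [Algebra K K₁] [Algebra k₁ K₁] [Algebra k K₁]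
  [IsScalarTower k k₁ K₁] [IsScalarTower k K K₁] [Algebra.IsAlgebraic k k₁]

/-- A place `Q` of `K₁` and the finitely many other places over the same place of `K` are separated
by an element `z`, a local parameter at `Q` and a unit at the others. -/
theorem exists_separating_parameter
    (h : Function.Surjective (Algebra.TensorProduct.productMap
      (IsScalarTower.toAlgHom k k₁ K₁) (IsScalarTower.toAlgHom k K K₁)))
    (hK : IsFunctionField k K) (hK₁ : IsFunctionField k₁ K₁) (Q : Place k₁ K₁) :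
    ∃ (P : Place k K) (z : K₁), IsOver (ofAlg k₁ Q : Place k K₁) P ∧ Q.1 z = exp (-1 : ℤ) ∧
      ∀ Q' : Place k₁ K₁, IsOver (ofAlg k₁ Q' : Place k K₁) P → Q' ≠ Q → Q'.1 z = 1 := by
  classical
  obtain ⟨P, hP⟩ := exists_below h hK Q
  set S : Finset (Place k₁ K₁) := (finite_over hK hK₁ P).toFinset with hS
  obtain ⟨z, hz⟩ := exists_approx_eq S (fun R => if R = Q then (0 : K₁) else 1) (fun _ => (-1 : ℤ))
  refine ⟨P, z, hP, ?_, ?_⟩
  · have := hz Q (by rw [hS, Set.Finite.mem_toFinset]; exact hP)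
    simpa using this
  · intro Q' hQ' hne
    have h1 := hz Q' (by rw [hS, Set.Finite.mem_toFinset]; exact hQ')
    rw [if_neg hne] at h1
    have h2 : Q'.1 (z - 1) < 1 := by
      rw [h1, ← exp_zero, exp_lt_exp]; omega
    have h3 : z = (z - 1) + 1 := by ring
    rw [h3, Valuation.map_add_eq_of_lt_right _ (by rw [map_one]; exact h2), map_one]

/-- Goldschmidt, Lemma 3.4.? : every place of `K₁ = k₁ K` is defined over a finite extension. -/
theorem place_defined_over_finite
    (h : Function.Surjective (Algebra.TensorProduct.productMap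
      (IsScalarTower.toAlgHom k k₁ K₁) (IsScalarTower.toAlgHom k K K₁)))
    (hK : IsFunctionField k K) (hK₁ : IsFunctionField k₁ K₁) (Q : Place k₁ K₁) :
    ∃ k' : IntermediateField k k₁, FiniteDimensional k k' ∧
      (∃ z ∈ Algebra.adjoin K (Set.range fun c : k' => algebraMap k₁ K₁ c), Q.1 z = exp (-1 : ℤ)) ∧
      ∀ Q' : Place k₁ K₁,
        (∃ e : ℕ, ∀ z ∈ Algebra.adjoin K (Set.range fun c : k' => algebraMap k₁ K₁ c),
          Q'.1 z = Q.1 z ^ e) → Q' = Q := by
  obtain ⟨P, z, hP, hz, hsep⟩ := exists_separating_parameter h hK hK₁ Q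
  obtain ⟨k', hfin, hzk'⟩ := exists_finite_level h z
  refine ⟨k', hfin, ⟨z, hzk', hz⟩, ?_⟩
  rintro Q' ⟨e, he⟩
  by_contra hne
  have he0 : e ≠ 0 := by
    rintro rfl
    have := he 0 (Subalgebra.zero_mem _)
    simp at this
  obtain ⟨eQ, heQ⟩ := hP
  have hQ'P : IsOver (ofAlg k₁ Q' : Place k K₁) P := by
    refine ⟨eQ * e, fun x => ?_⟩
    have h1 := he (algebraMap K K₁ x) (Subalgebra.algebraMap_mem _ x)
    have h2 : Q.1 (algebraMap K K₁ x) = P.1 x ^ eQ := heQ x
    show Q'.1 (algebraMap K K₁ x) = _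
    rw [h1, h2, pow_mul]
  have h3 := hsep Q' hQ'P hne
  have h4 := he z hzk'
  rw [h3, hz] at h4
  have h5 := exp_neg_one_pow_lt_one (Nat.pos_of_ne_zero he0)
  rw [← h4] at h5
  exact lt_irrefl _ h5

end Groth.Agent.Lib.Helper18.FFBar
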