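import Groth.Agent.Lib.Helper18.FFBar.Places
import Groth.Agent.Lib.Helper18.FF.Special
import Groth.Agent.Lib.Helper18.FF.Riemann
import Groth.Agent.Lib.Helper18.FF.Residue
import Mathlib.RingTheory.Flat.Basic

/-! # A place with a unique unramified extension to `k̄ K'` has degree one (helper18) -/

set_option autoImplicit false

namespace Groth.Agent.Lib.Helper18.FFBar

open FunFld WithZero Groth.Agent.Lib.Helper18.FF Groth.Agent.Lib.Helper24.FFExt

open scoped TensorProduct

variable {k k₁ K K₁ : Type*} [Field k] [Field k₁] [Field K] [Field K₁]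
  [Algebra k k₁] [Algebra k K] [Algebra K K₁] [Algebra k₁ K₁] [Algebra k K₁]
  [IsScalarTower k k₁ K₁] [IsScalarTower k K K₁] [Algebra.IsAlgebraic k k₁]

theorem deg_eq_one_of_isAlgClosed [IsAlgClosed k₁] (hK₁ : IsFunctionField k₁ K₁)
    (R : Place k₁ K₁) : R.deg = 1 := by
  have hfin := finiteDimensional_residueField hK₁ R
  haveI : Algebra.IsIntegral k₁ (IsLocalRing.ResidueField R.O) :=
    @Algebra.IsIntegral.of_finite k₁ (IsLocalRing.ResidueField R.O) _ _ _ hfin
  have hbij : Function.Bijective (algebraMap k₁ (IsLocalRing.ResidueField R.O)) :=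
    IsAlgClosed.algebraMap_bijective_of_isIntegral
  unfold Place.deg
  have e : k₁ ≃ₗ[k₁] IsLocalRing.ResidueField R.O :=
    LinearEquiv.ofBijective (Algebra.linearMap k₁ _) hbij
  rw [← e.finrank_eq, Module.finrank_self]

/-- Linear independence over `k` in `K` is preserved in `K₁` over `k₁`. -/
theorem linearIndependent_map
    (h : Function.Injective (Algebra.TensorProduct.productMap
      (IsScalarTower.toAlgHom k k₁ K₁) (IsScalarTower.toAlgHom k K K₁)))
    {ι : Type*} {v : ι → K} (hv : LinearIndependent k v) :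
    LinearIndependent k₁ (fun i => algebraMap K K₁ (v i)) := by
  have h1 : LinearIndependent k₁ (fun i => (1 : k₁) ⊗ₜ[k] v i) :=
    Module.Flat.linearIndependent_one_tmul hv
  let μ : k₁ ⊗[k] K →ₐ[k₁] K₁ :=
    Algebra.TensorProduct.productLeftAlgHom (Algebra.ofId k₁ K₁) (IsScalarTower.toAlgHom k K K₁)
  have hμ : Function.Injective μ := h
  have h2 := h1.map' μ.toLinearMap (LinearMap.ker_eq_bot.mpr hμ)
  have : (fun i => algebraMap K K₁ (v i)) = μ.toLinearMap ∘ fun i => (1 : k₁) ⊗ₜ[k] v i := by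
    ext i
    simp [μ]
  rw [this]
  exact h2

/-- `ℓ` can only grow under constant field extension, for divisors compared through `L`. -/
theorem ell_le_ell_of_map
    (h : Function.Injective (Algebra.TensorProduct.productMap
      (IsScalarTower.toAlgHom k k₁ K₁) (IsScalarTower.toAlgHom k K K₁)))
    (hK : IsFunctionField k K) (hK₁ : IsFunctionField k₁ K₁)
    (D : Divisor k K) (D₁ : Divisor k₁ K₁)
    (hmap : ∀ x ∈ L D, algebraMap K K₁ x ∈ L D₁) : ell D ≤ ell D₁ := by
  classical
  haveI := finiteDimensional_L hK D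
  haveI := finiteDimensional_L hK₁ D₁
  let b := Module.finBasis k (L D)
  have hv : LinearIndependent k (fun i => ((b i : L D) : K)) :=
    b.linearIndependent.map' (L D).subtype (Submodule.ker_subtype _)
  have hw := linearIndependent_map h hv
  let u : Fin (Module.finrank k (L D)) → L D₁ := fun i => ⟨algebraMap K K₁ (b i), hmap _ (b i).2⟩
  have hu : LinearIndependent k₁ u := by
    refine LinearIndependent.of_comp (L D₁).subtype ?_
    exact hw
  have := hu.fintype_card_le_finrank
  simpa [ell] using this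

/-- Core: a place `Q` of `K/k` having a unique place `Qb` of `K₁ = k₁ K` above it, unramified, has
degree one, when `k₁` is algebraically closed. -/
theorem deg_eq_one_of_unique_unramified [IsAlgClosed k₁]
    (h : Function.Bijective (Algebra.TensorProduct.productMap
      (IsScalarTower.toAlgHom k k₁ K₁) (IsScalarTower.toAlgHom k K K₁)))
    (hK : IsFunctionField k K) (Q : Place k K) (Qb : Place k₁ K₁)
    (hQb : IsOverWith (ofAlg k₁ Qb : Place k K₁) Q 1)
    (huniq : ∀ R : Place k₁ K₁, IsOver (ofAlg k₁ R : Place k K₁) Q → R = Qb) : Q.deg = 1 := by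
  classical
  have hK₁ : IsFunctionField k₁ K₁ := isFunctionField_bar h.2 hK.1
  have hd : 0 < Q.deg := deg_pos hK Q
  set g := genus k K with hg
  set n : ℕ := g + 1 with hn
  set D : Divisor k K := Finsupp.single Q (n : ℤ) with hD
  set D₁ : Divisor k₁ K₁ := Finsupp.single Qb (n : ℤ) with hD₁
  have hmap : ∀ x ∈ L D, algebraMap K K₁ x ∈ L D₁ := by
    intro x hx R
    obtain ⟨Q₂, e₂, he₂⟩ := exists_below h.2 hK R
    have hval : R.1 (algebraMap K K₁ x) = Q₂.1 x ^ e₂ := he₂ x
    by_cases hQ₂ : Q₂ = Q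
    · subst hQ₂
      have hR : R = Qb := huniq R ⟨e₂, he₂⟩
      subst hR
      have he : e₂ = 1 := isOverWith_eq he₂ hQb
      rw [hval, he, pow_one, hD₁, Finsupp.single_eq_same]
      have := hx Q₂
      rwa [hD, Finsupp.single_eq_same] at this
    · have hRne : R ≠ Qb := by
        rintro rfl
        exact hQ₂ (isOver_unique ⟨e₂, he₂⟩ ⟨1, hQb⟩)
      have h1 := hx Q₂
      rw [hD, Finsupp.single_eq_of_ne hQ₂, exp_zero] at h1
      rw [hval, hD₁, Finsupp.single_eq_of_ne hRne, exp_zero]
      exact pow_le_one₀ zero_le' h1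
  have h1 : ell D ≤ ell D₁ := ell_le_ell_of_map h.1 hK hK₁ D D₁ hmap
  have h2 : delta D ≤ genus k K := delta_le_genus hK D
  have h3 : D.deg = n * Q.deg := by rw [hD, deg_single]
  have h4 : D₁.deg = n := by
    rw [hD₁, deg_single, deg_eq_one_of_isAlgClosed hK₁ Qb]; simp
  have h5 : (ell D₁ : ℤ) ≤ D₁.deg + 1 := ell_le_deg_add_one hK₁ (by rw [h4]; have : (0 : ℤ) ≤ (n : ℤ) := Int.natCast_nonneg n; linarith)
  unfold delta at h2
  rw [h3] at h2
  rw [h4] at h5
  have h6 : (ell D : ℤ) ≤ ell D₁ := by exact_mod_cast h1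
  -- n * d + 1 - ℓ ≤ g, ℓ ≤ n + 1
  have h7 : (n : ℤ) * Q.deg ≤ g + n := by linarith
  by_contra hne
  have hd2 : 2 ≤ Q.deg := by omega
  have h8 : (n : ℤ) * 2 ≤ n * Q.deg := by
    have : (2 : ℤ) ≤ Q.deg := by exact_mod_cast hd2
    nlinarith
  have h9 : (n : ℤ) = g + 1 := by rw [hn]; push_cast; ring
  linarith

end Groth.Agent.Lib.Helper18.FFBar
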