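import Groth.Agent.Lib.Helper18.FFBar.Defined
import Groth.Agent.Lib.Helper18.FFBar.DegOne
import Groth.Agent.Lib.Helper24.FFExt.Geometric

/-! # Finite splitting fields of places (helper18) -/

set_option autoImplicit false

namespace Groth.Agent.Lib.Helper18.FFBar

open FunFld WithZero Groth.Agent.Lib.Helper18.FF Groth.Agent.Lib.Helper24.FFExt

open scoped TensorProduct

universe u v w

section level

variable {k kb K Kb : Type*} [Field k] [Field kb] [Field K] [Field Kb]
  [Algebra k kb] [Algebra k K] [Algebra K Kb] [Algebra kb Kb] [Algebra k Kb]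
  [IsScalarTower k kb Kb] [IsScalarTower k K Kb] [Algebra.IsAlgebraic k kb]

/-- A finite level `k₀` over which all places above `P` have separating local parameters. -/
theorem exists_level
    (h : Function.Surjective (Algebra.TensorProduct.productMap
      (IsScalarTower.toAlgHom k kb Kb) (IsScalarTower.toAlgHom k K Kb)))
    (hK : IsFunctionField k K) (hKb : IsFunctionField kb Kb) (P : Place k K) :
    ∃ k₀ : IntermediateField k kb, FiniteDimensional k k₀ ∧
      ∀ Qb : Place kb Kb, IsOver (ofAlg kb Qb : Place k Kb) P →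
        ∃ z ∈ Algebra.adjoin K (Set.range fun c : k₀ => algebraMap kb Kb c),
          Qb.1 z = exp (-1 : ℤ) ∧
          ∀ Q' : Place kb Kb, IsOver (ofAlg kb Q' : Place k Kb) P → Q' ≠ Qb → Q'.1 z = 1 := by
  classical
  set S : Finset (Place kb Kb) := (finite_over hK hKb P).toFinset with hS
  choose P' z hz using fun Qb => exists_separating_parameter h hK hKb Qb
  choose k' hfin hzk' using fun Qb => exists_finite_level h (z Qb)
  haveI : ∀ Qb, FiniteDimensional k (k' Qb) := hfin
  refine ⟨⨆ Qb ∈ S, k' Qb, IntermediateField.finiteDimensional_iSup_of_finset, ?_⟩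
  intro Qb hQb
  have hQbS : Qb ∈ S := by rw [hS, Set.Finite.mem_toFinset]; exact hQb
  have hP' : P' Qb = P := isOver_unique (hz Qb).1 hQb
  have hle : k' Qb ≤ ⨆ Qb ∈ S, k' Qb := le_biSup k' hQbS
  refine ⟨z Qb, ?_, (hz Qb).2.1, ?_⟩
  · refine Algebra.adjoin_mono ?_ (hzk' Qb)
    rintro _ ⟨c, rfl⟩
    exact ⟨⟨c.1, hle c.2⟩, rfl⟩
  · intro Q' hQ' hne
    exact (hz Qb).2.2 Q' (by rw [hP']; exact hQ') hne

end level

section glue

variable {k kb : Type u} {K K' : Type v} {Kb : Type w} [Field k] [Field kb] [Field K] [Field Kb]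
  [Algebra k kb] [Algebra k K] [Algebra K Kb] [Algebra kb Kb] [Algebra k Kb]
  [IsScalarTower k kb Kb] [IsScalarTower k K Kb] [Algebra.IsAlgebraic k kb] [IsAlgClosed kb]

theorem zm0_eq_of_pow_eq_exp_neg_one {γ : ℤᵐ⁰} {e : ℕ} (h : γ ^ e = exp (-1 : ℤ)) :
    e = 1 ∧ γ = exp (-1 : ℤ) := by
  have hγ0 : γ ≠ 0 := by
    rintro rfl
    rcases Nat.eq_zero_or_pos e with rfl | he
    · rw [pow_zero, ← exp_zero] at h
      have := exp_injective h; omega
    · rw [zero_pow he.ne'] at h
      exact exp_ne_zero h.symm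
  obtain ⟨m, rfl⟩ : ∃ m : ℤ, γ = exp m := ⟨log γ, (exp_log hγ0).symm⟩
  rw [← exp_nsmul] at h
  have h1 := exp_injective h
  rw [nsmul_eq_mul] at h1
  have he : (e : ℤ) = 1 ∧ m = -1 ∨ (e : ℤ) = -1 ∧ m = 1 := by
    have h2 : (e : ℤ) * (-m) = 1 := by linarith
    rcases Int.eq_one_or_neg_one_of_mul_eq_one' h2 with ⟨h3, h4⟩ | ⟨h3, h4⟩
    · left; exact ⟨h3, by omega⟩
    · right; exact ⟨h3, by omega⟩
  rcases he with ⟨h3, h4⟩ | ⟨h3, _⟩
  · exact ⟨by exact_mod_cast h3, by rw [h4]⟩
  · have : (0 : ℤ) ≤ e := Int.natCast_nonneg e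
    omega

variable [Field K'] [Algebra K K']

/-- Over the level `k₀` of `exists_level`, every place of `k₀ K` above `P` has degree one. -/
theorem deg_eq_one_of_level
    (h : Function.Bijective (Algebra.TensorProduct.productMap
      (IsScalarTower.toAlgHom k kb Kb) (IsScalarTower.toAlgHom k K Kb)))
    (hK : IsFunctionField k K) (hg : IsGeometric k K) (P : Place k K)
    (k₀ : IntermediateField k kb) [FiniteDimensional k k₀]
    (hk₀ : ∀ Qb : Place kb Kb, IsOver (ofAlg kb Qb : Place k Kb) P →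
        ∃ z ∈ Algebra.adjoin K (Set.range fun c : k₀ => algebraMap kb Kb c),
          Qb.1 z = exp (-1 : ℤ) ∧
          ∀ Q' : Place kb Kb, IsOver (ofAlg kb Q' : Place k Kb) P → Q' ≠ Qb → Q'.1 z = 1)
    [Algebra k₀ K'] [Algebra k K'] [IsScalarTower k k₀ K'] [IsScalarTower k K K']
    (h' : Function.Bijective (Algebra.TensorProduct.productMap
      (IsScalarTower.toAlgHom k k₀ K') (IsScalarTower.toAlgHom k K K')))
    (Q : Place k₀ K') (hQ : IsOver (ofAlg k₀ Q : Place k K') P) : Q.deg = 1 := by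
  classical
  have hK' : IsFunctionField k₀ K' := isFunctionField_baseChange h' hK hg
  have hKb : IsFunctionField kb Kb := isFunctionField_bar h.2 hK.1
  let e : k₀ ⊗[k] K ≃ₐ[k₀] K' := tensorEquiv h'
  let j : k₀ ⊗[k] K →ₐ[k₀] Kb :=
    Algebra.TensorProduct.productLeftAlgHom (Algebra.ofId k₀ Kb) (IsScalarTower.toAlgHom k K Kb)
  let ι : K' →ₐ[k₀] Kb := j.comp e.symm.toAlgHom
  letI : Algebra K' Kb := ι.toRingHom.toAlgebra
  have hιdef : ∀ y : K', algebraMap K' Kb y = ι y := fun _ => rfl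
  haveI : IsScalarTower k₀ K' Kb := IsScalarTower.of_algebraMap_eq fun c => (ι.commutes c).symm
  have hιK : ∀ x : K, ι (algebraMap K K' x) = algebraMap K Kb x := by
    intro x
    have h1 : e ((1 : k₀) ⊗ₜ[k] x) = algebraMap K K' x := by
      rw [tensorEquiv_tmul, map_one, one_mul]
    have h2 : e.symm (algebraMap K K' x) = (1 : k₀) ⊗ₜ[k] x := by
      rw [← h1, AlgEquiv.symm_apply_apply]
    show j (e.symm (algebraMap K K' x)) = _
    rw [h2]
    simp [j]
  haveI : IsScalarTower K K' Kb := IsScalarTower.of_algebraMap_eq fun x => (hιK x).symm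
  haveI : Algebra.IsAlgebraic k₀ kb := Algebra.IsAlgebraic.tower_top (K := k) k₀
  -- bijectivity over `k₀`
  have hsurj : Function.Surjective (Algebra.TensorProduct.productMap
      (IsScalarTower.toAlgHom k₀ kb Kb) (IsScalarTower.toAlgHom k₀ K' Kb)) := by
    intro z
    obtain ⟨l, rfl⟩ := exists_repr h.2 z
    refine ⟨(l.map fun p => p.1 ⊗ₜ[k₀] algebraMap K K' p.2).sum, ?_⟩
    rw [map_list_sum, List.map_map]
    congr 1
    refine List.map_congr_left fun p _ => ?_
    simp only [Function.comp_apply, Algebra.TensorProduct.productMap_apply_tmul,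
      IsScalarTower.coe_toAlgHom']
    rw [hιdef, hιK]
  have hinj : Function.Injective (Algebra.TensorProduct.productMap
      (IsScalarTower.toAlgHom k₀ kb Kb) (IsScalarTower.toAlgHom k₀ K' Kb)) := by
    let B : Module.Basis (Module.Basis.ofVectorSpaceIndex k K) k K := Module.Basis.ofVectorSpace k K
    let e3 : kb ⊗[k] K ≃ₐ[kb] Kb := AlgEquiv.ofBijective
      (Algebra.TensorProduct.productLeftAlgHom (Algebra.ofId kb Kb) (IsScalarTower.toAlgHom k K Kb)) h
    let B' : Module.Basis _ k₀ K' := (Algebra.TensorProduct.basis k₀ B).map e.toLinearEquiv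
    let Bb : Module.Basis _ kb Kb := (Algebra.TensorProduct.basis kb B).map e3.toLinearEquiv
    let B'' : Module.Basis _ kb (kb ⊗[k₀] K') := Algebra.TensorProduct.basis kb B'
    let μ : kb ⊗[k₀] K' →ₐ[kb] Kb :=
      Algebra.TensorProduct.productLeftAlgHom (Algebra.ofId kb Kb) (IsScalarTower.toAlgHom k₀ K' Kb)
    have hμ : μ.toLinearMap = (B''.equiv Bb (Equiv.refl _)).toLinearMap := by
      refine B''.ext fun i => ?_
      have h1 : B'' i = (1 : kb) ⊗ₜ[k₀] B' i := Algebra.TensorProduct.basis_apply _ i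
      have h2 : B' i = algebraMap K K' (B i) := by
        show e ((Algebra.TensorProduct.basis k₀ B) i) = _
        rw [Algebra.TensorProduct.basis_apply, tensorEquiv_tmul, map_one, one_mul]
      have h3 : Bb i = algebraMap K Kb (B i) := by
        show e3 ((Algebra.TensorProduct.basis kb B) i) = _
        rw [Algebra.TensorProduct.basis_apply]
        simp [e3]
      rw [LinearEquiv.coe_coe, Module.Basis.equiv_apply, Equiv.refl_apply, h3, h1, h2]
      have h4 : μ ((1 : kb) ⊗ₜ[k₀] algebraMap K K' (B i)) =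
          algebraMap kb Kb 1 * algebraMap K' Kb (algebraMap K K' (B i)) := by
        simp [μ]
      rw [AlgHom.toLinearMap_apply, h4, map_one, one_mul, hιdef, hιK]
    have hμinj : Function.Injective μ := by
      have : (μ : kb ⊗[k₀] K' → Kb) = (B''.equiv Bb (Equiv.refl _)) := by
        ext x
        exact LinearMap.congr_fun hμ x
      rw [this]
      exact (B''.equiv Bb (Equiv.refl _)).injective
    exact hμinj
  -- a place of `Kb` above `Q`
  obtain ⟨Qb, e₁, he₁⟩ := exists_place_over (k := k₀) (k₁ := kb) (F := K') (E := Kb) hKb Q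
  obtain ⟨e₀, he₀⟩ := hQ
  have hover : ∀ (R : Place kb Kb) (eR : ℕ), IsOverWith (ofAlg kb R : Place k₀ Kb) Q eR →
      IsOver (ofAlg kb R : Place k Kb) P := by
    intro R eR hR
    refine ⟨e₀ * eR, fun x => ?_⟩
    have h1 : R.1 (algebraMap K' Kb (algebraMap K K' x)) = Q.1 (algebraMap K K' x) ^ eR :=
      hR (algebraMap K K' x)
    have h2 : Q.1 (algebraMap K K' x) = P.1 x ^ e₀ := he₀ x
    show R.1 (algebraMap K Kb x) = _
    rw [IsScalarTower.algebraMap_apply K K' Kb, h1, h2, pow_mul]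
  obtain ⟨z, hzmem, hz1, hz2⟩ := hk₀ Qb (hover Qb e₁ he₁)
  -- `z` comes from `K'`
  have hzK' : ∃ z' : K', ι z' = z := by
    have hle : Algebra.adjoin K (Set.range fun c : k₀ => algebraMap kb Kb c) ≤
        (IsScalarTower.toAlgHom K K' Kb).range := by
      rw [Algebra.adjoin_le_iff]
      rintro _ ⟨c, rfl⟩
      refine ⟨algebraMap k₀ K' c, ?_⟩
      show ι (algebraMap k₀ K' c) = _
      rw [ι.commutes]
      rfl
    obtain ⟨z', hz'⟩ := hle hzmem
    exact ⟨z', hz'⟩
  obtain ⟨z', rfl⟩ := hzK'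
  have hval : Qb.1 (ι z') = Q.1 z' ^ e₁ := he₁ z'
  obtain ⟨he1, hQz'⟩ := zm0_eq_of_pow_eq_exp_neg_one (hval.symm.trans hz1)
  subst he1
  refine deg_eq_one_of_unique_unramified (k := k₀) (k₁ := kb) (K := K') (K₁ := Kb)
    ⟨hinj, hsurj⟩ hK' Q Qb he₁ ?_
  rintro R ⟨eR, hR⟩
  by_contra hne
  have h3 := hz2 R (hover R eR hR) hne
  have h4 : R.1 (ι z') = Q.1 z' ^ eR := hR z'
  rw [h3, hQz'] at h4
  have h5 := exp_neg_one_pow_lt_one (isOverWith_pos hR)
  rw [← h4] at h5
  exact lt_irrefl _ h5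

end glue

end Groth.Agent.Lib.Helper18.FFBar
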