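import Groth.Agent.Lib.Helper24.FFExt.Weak
import Groth.Agent.Lib.Helper24.FFExt.Under
import Groth.Agent.Lib.Helper18.FF.Exists
import Mathlib.RingTheory.Valuation.LocalSubring

/-! # Places above a given place in an algebraic (possibly infinite) extension (helper18)

`F ⊆ E` fields, `E/F` arbitrary, `E` a function field over `k₁`, `k₁/k` algebraic.  Every place of
`F/k` extends to a place of `E/k₁`. -/

set_option autoImplicit false

namespace Groth.Agent.Lib.Helper18.FFBar

open FunFld WithZero Groth.Agent.Lib.Helper18.FF Groth.Agent.Lib.Helper24.FFExt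

variable {k k₁ F E : Type*} [Field k] [Field k₁] [Field F] [Field E]
  [Algebra k k₁] [Algebra k F] [Algebra F E] [Algebra k₁ E] [Algebra k E]
  [IsScalarTower k k₁ E] [IsScalarTower k F E] [Algebra.IsAlgebraic k k₁]

/-- Every place of `F/k` has a place of `E/k₁` above it. -/
theorem exists_place_over (hE : IsFunctionField k₁ E) (P : Place k F) :
    ∃ Q : Place k₁ E, IsOver (ofAlg k₁ Q : Place k E) P := by
  obtain ⟨t, ht⟩ := exists_uniformizer P
  have ht0 : t ≠ 0 := by rintro rfl; rw [map_zero] at ht; exact exp_ne_zero ht.symm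
  have htle : P.1 t ≤ 1 := by rw [ht, ← exp_zero, exp_le_exp]; omega
  set A : Subring E := P.O.toSubring.map (algebraMap F E) with hA
  have hmemA : ∀ x : F, P.1 x ≤ 1 → algebraMap F E x ∈ A := fun x hx =>
    Subring.mem_map.mpr ⟨x, (Valuation.mem_valuationSubring_iff _ _).mpr hx, rfl⟩
  let τ : A := ⟨algebraMap F E t, hmemA t htle⟩
  have hI : Ideal.span {τ} ≠ ⊤ := by
    intro htop
    rw [Ideal.span_singleton_eq_top] at htop
    obtain ⟨⟨u, hu⟩, hu'⟩ := htop.exists_right_inv
    obtain ⟨a, ha, rfl⟩ := Subring.mem_map.mp hu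
    have h1 : algebraMap F E (t * a) = 1 := by
      rw [map_mul]; exact congrArg Subtype.val hu'
    have h2 : t * a = 1 := (algebraMap F E).injective (by rw [h1, map_one])
    have h3 : P.1 t * P.1 a = 1 := by rw [← map_mul, h2, map_one]
    have h4 : P.1 a ≤ 1 := (Valuation.mem_valuationSubring_iff _ _).mp ha
    have h5 : P.1 t < 1 := by rw [ht, ← exp_zero, exp_lt_exp]; omega
    have : P.1 t * P.1 a < 1 := by
      calc P.1 t * P.1 a ≤ P.1 t * 1 := mul_le_mul' le_rfl h4
        _ = P.1 t := mul_one _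
        _ < 1 := h5
    exact absurd h3 this.ne
  obtain ⟨B, hAB, hIB⟩ := Ideal.image_subset_nonunits_valuationSubring (Ideal.span {τ}) hI
  have htB : B.valuation (algebraMap F E t) < 1 := by
    have : algebraMap F E t ∈ B.nonunits := hIB ⟨τ, Ideal.subset_span rfl, rfl⟩
    exact (ValuationSubring.mem_nonunits_iff (A := B)).mp this
  have hkB : ∀ c : k, B.valuation (algebraMap k E c) ≤ 1 := by
    intro c
    rw [B.valuation_le_one_iff]
    apply hAB
    rw [IsScalarTower.algebraMap_apply k F E]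
    exact hmemA _ (P.2.1 c)
  have hk₁B : ∀ c : k₁, algebraMap k₁ E c ∈ B := by
    intro c
    rw [← B.valuation_le_one_iff]
    exact val_le_one_of_isIntegral (K := k) B.valuation hkB
      ((Algebra.IsIntegral.isIntegral (R := k) c).algebraMap)
  have hy0 : algebraMap F E t ≠ 0 := (map_ne_zero _).mpr ht0
  obtain ⟨Q, hQ1, hQ2⟩ := exists_place_of_valuationSubring hE B hk₁B hy0 htB
  refine ⟨Q, isOver_of_le_one_iff fun x => ⟨fun hx => ?_, fun hx => hQ1 _ (hAB (hmemA x hx))⟩⟩
  by_contra hlt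
  push Not at hlt
  have hx0 : x ≠ 0 := by rintro rfl; simp at hlt
  have hPx0 : P.1 x ≠ 0 := (Valuation.ne_zero_iff _).mpr hx0
  have h1 : P.1 x⁻¹ < 1 := by
    rw [map_inv₀]; exact (inv_lt_one₀ (zero_lt_iff.mpr hPx0)).mpr hlt
  have h2 : P.1 x⁻¹ ≤ exp (-1 : ℤ) := (zm0_lt_one_iff _).mp h1
  have h3 : P.1 (x⁻¹ / t) ≤ 1 := by
    rw [map_div₀, ht]
    exact div_le_one_of_le₀ h2 (zero_le')
  have h4 : algebraMap F E x⁻¹ = algebraMap F E t * algebraMap F E (x⁻¹ / t) := by
    rw [← map_mul, mul_div_cancel₀ _ ht0]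
  have h5 : B.valuation (algebraMap F E x⁻¹) < 1 := by
    rw [h4, map_mul]
    have h6 : B.valuation (algebraMap F E (x⁻¹ / t)) ≤ 1 :=
      (B.valuation_le_one_iff _).mpr (hAB (hmemA _ h3))
    calc B.valuation (algebraMap F E t) * B.valuation (algebraMap F E (x⁻¹ / t))
        ≤ B.valuation (algebraMap F E t) * 1 := mul_le_mul' le_rfl h6
      _ = B.valuation (algebraMap F E t) := mul_one _
      _ < 1 := htB
  have h7 := hQ2 _ h5
  rw [map_inv₀, map_inv₀] at h7
  have hQx0 : Q.1 (algebraMap F E x) ≠ 0 := (Valuation.ne_zero_iff _).mpr ((map_ne_zero _).mpr hx0)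
  have h8 := (inv_lt_one₀ (zero_lt_iff.mpr hQx0)).mp h7
  exact absurd hx (not_le.mpr h8)

end Groth.Agent.Lib.Helper18.FFBar
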