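import Groth.Agent.Lib.Helper18.FFBar.Basic
import Groth.Agent.Lib.Helper18.FF.Approx2

/-! # Places of `K₁ = k₁ K` above a place of `K` (helper18) -/

set_option autoImplicit false

namespace Groth.Agent.Lib.Helper18.FFBar

open FunFld WithZero Groth.Agent.Lib.Helper18.FF Groth.Agent.Lib.Helper24.FFExt

open scoped TensorProduct

variable {k k₁ K K₁ : Type*} [Field k] [Field k₁] [Field K] [Field K₁]
  [Algebra k k₁] [Algebra k K] [Algebra K K₁] [Algebra k₁ K₁] [Algebra k K₁]
  [IsScalarTower k k₁ K₁] [IsScalarTower k K K₁] [Algebra.IsAlgebraic k k₁]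

theorem exists_below
    (h : Function.Surjective (Algebra.TensorProduct.productMap
      (IsScalarTower.toAlgHom k k₁ K₁) (IsScalarTower.toAlgHom k K K₁)))
    (hK : IsFunctionField k K) (Q : Place k₁ K₁) :
    ∃ P : Place k K, IsOver (ofAlg k₁ Q : Place k K₁) P := by
  haveI := isAlgebraic_of_surjective h
  exact exists_isOver hK (ofAlg k₁ Q)

theorem exp_neg_one_pow_lt_one {e : ℕ} (he : 0 < e) : (exp (-1 : ℤ) : ℤᵐ⁰) ^ e < 1 := by
  rw [← exp_nsmul, ← exp_zero, exp_lt_exp]
  rw [nsmul_eq_mul]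
  have : (0 : ℤ) < (e : ℤ) := by exact_mod_cast he
  linarith

theorem finite_over (hK : IsFunctionField k K) (hK₁ : IsFunctionField k₁ K₁) (P : Place k K) :
    {Q : Place k₁ K₁ | IsOver (ofAlg k₁ Q : Place k K₁) P}.Finite := by
  obtain ⟨t, ht⟩ := exists_uniformizer P
  have ht0 : t ≠ 0 := by rintro rfl; rw [map_zero] at ht; exact exp_ne_zero ht.symm
  have hne : P.1 t ≠ 1 := by
    rw [ht, ← exp_zero]
    intro h
    have := exp_injective h
    omega
  have htr : Transcendental k t := transcendental_of_val_ne_one hK P ht0 hne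
  refine (finite_zeros hK₁ (transcendental_map (k₁ := k₁) (K₁ := K₁) htr)).subset ?_
  rintro Q ⟨e, he⟩
  show Q.1 (algebraMap K K₁ t) < 1
  have h1 : Q.1 (algebraMap K K₁ t) = P.1 t ^ e := he t
  rw [h1, ht]
  exact exp_neg_one_pow_lt_one (isOverWith_pos he)

end Groth.Agent.Lib.Helper18.FFBar
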