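import Groth.Agent.Lib.Helper18.FFBar.Closure
import Mathlib.RingTheory.Valuation.Extension

/-! # Every place of a geometric function field has a finite splitting field (helper18) -/

set_option autoImplicit false

namespace Groth.Agent.Lib.Helper18.FFBar

open FunFld WithZero Groth.Agent.Lib.Helper18.FF Groth.Agent.Lib.Helper24.FFExt

open scoped TensorProduct

universe u v

theorem isOver_of_hasExtension {k k' K K' : Type*} [Field k] [Field k'] [Field K] [Field K']
    [Algebra k k'] [Algebra k K] [Algebra K K'] [Algebra k' K'] [Algebra k K']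
    [IsScalarTower k k' K'] [Algebra.IsAlgebraic k k']
    (P : Place k K) (Q : Place k' K') [hext : P.1.HasExtension Q.1] :
    IsOver (ofAlg k' Q : Place k K') P := by
  refine isOver_of_le_one_iff fun x => ?_
  have h := hext.val_isEquiv_comap x 1
  rw [map_one, Valuation.comap_apply, Valuation.comap_apply, map_one, map_one] at h
  exact h.symm

variable {k : Type u} {K : Type v} [Field k] [Field K] [Algebra k K]

theorem exists_finite_splitting_field (hK : IsFunctionField k K) (hg : IsGeometric k K)
    (P : Place k K) :
    ∃ (k' : Type u) (_ : Field k') (_ : Algebra k k'), FiniteDimensional k k' ∧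
      ∀ (K' : Type v) [Field K'] [Algebra K K'] [Algebra k' K'] [Algebra k K']
        [IsScalarTower k k' K'] [IsScalarTower k K K'],
        Function.Bijective (Algebra.TensorProduct.productMap
          (IsScalarTower.toAlgHom k k' K') (IsScalarTower.toAlgHom k K K')) →
        ∀ Q : Place k' K', P.1.HasExtension Q.1 → Q.deg = 1 := by
  classical
  have hT : IsField (AlgebraicClosure k ⊗[k] K) := isField_tensor_algebraicClosure hg
  haveI : IsDomain (AlgebraicClosure k ⊗[k] K) := hT.isDomain
  let Kb := FractionRing (AlgebraicClosure k ⊗[k] K)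
  let φ : K →+* Kb := (algebraMap (AlgebraicClosure k ⊗[k] K) Kb).comp
    (Algebra.TensorProduct.includeRight : K →ₐ[k] AlgebraicClosure k ⊗[k] K).toRingHom
  letI : Algebra K Kb := φ.toAlgebra
  have hφ : ∀ x : K, algebraMap K Kb x =
      algebraMap (AlgebraicClosure k ⊗[k] K) Kb ((1 : AlgebraicClosure k) ⊗ₜ[k] x) := fun _ => rfl
  haveI : IsScalarTower k K Kb := IsScalarTower.of_algebraMap_eq fun c => by
    rw [hφ, IsScalarTower.algebraMap_apply k (AlgebraicClosure k ⊗[k] K) Kb]
    congr 1
    exact ((Algebra.TensorProduct.includeRight :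
      K →ₐ[k] AlgebraicClosure k ⊗[k] K).commutes c).symm
  have h : Function.Bijective (Algebra.TensorProduct.productMap
      (IsScalarTower.toAlgHom k (AlgebraicClosure k) Kb) (IsScalarTower.toAlgHom k K Kb)) := by
    have heq : Algebra.TensorProduct.productMap
        (IsScalarTower.toAlgHom k (AlgebraicClosure k) Kb) (IsScalarTower.toAlgHom k K Kb) =
        IsScalarTower.toAlgHom k (AlgebraicClosure k ⊗[k] K) Kb := by
      refine Algebra.TensorProduct.ext' fun a x => ?_
      simp only [Algebra.TensorProduct.productMap_apply_tmul, IsScalarTower.coe_toAlgHom']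
      rw [hφ, IsScalarTower.algebraMap_apply (AlgebraicClosure k) (AlgebraicClosure k ⊗[k] K) Kb,
        ← map_mul, Algebra.TensorProduct.algebraMap_apply, Algebra.TensorProduct.tmul_mul_tmul,
        mul_one, one_mul]
      rfl
    rw [heq]
    exact ⟨IsFractionRing.injective _ _, IsFractionRing.surjective_iff_isField.mpr hT⟩
  have hKb : IsFunctionField (AlgebraicClosure k) Kb := isFunctionField_bar h.2 hK.1
  obtain ⟨k₀, hfin, hk₀⟩ := exists_level h.2 hK hKb P
  refine ⟨↥k₀, inferInstance, inferInstance, hfin, ?_⟩
  intro K' _ _ _ _ _ _ h' Q hext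
  haveI := hfin
  exact deg_eq_one_of_level h hK hg P k₀ hk₀ h' Q (isOver_of_hasExtension P Q)

end Groth.Agent.Lib.Helper18.FFBar
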